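import Groth.Agent.L22.FibreSemicont
import Groth.Agent.L22.BlowUp
import Groth.Agent.L22.DivSub.Basic
import Groth.Agent.L07.FibreDimSemi
import Groth.Agent.L02.RelDim.FlatLft
import Groth.Agent.L02.Misc.STD
import Groth.Agent.L23.LocalDimEtale
import Groth.Agent.L22.SchemeDim
import Groth.Prelude.Def_BlowUp2
import Mathlib.AlgebraicGeometry.Morphisms.UniversallyOpen

/-!
Universal equidimensionality of flat closures and flat strict transforms.
-/

set_option autoImplicit false
set_option linter.style.haveILetI false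
set_option linter.unusedSectionVars false
set_option backward.isDefEq.respectTransparency false
set_option backward.isDefEq.respectTransparency.types false

universe u

open CategoryTheory CategoryTheory.Limits AlgebraicGeometry TopologicalSpace Topology IsLocalRing
open Groth.L20.SeeNormal (sI sI_eq)

noncomputable section

namespace Groth.L22.UnivEquidim

/-- Maximal points for the specialization order. -/
def IsMax' {T : Scheme.{u}} (η : T) : Prop := ∀ t, t ⤳ η → t = η

theorem isMax'_of_closure_mem {T : Scheme.{u}} {η : T} (h : closure {η} ∈ irreducibleComponents T) : IsMax' η := by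
  intro t ht
  have h1 : closure ({η} : Set T) ⊆ closure {t} :=
    closure_minimal (Set.singleton_subset_iff.2 ht.mem_closure) isClosed_closure
  have h2 := h.2 (isIrreducible_singleton.closure) h1
  exact (specializes_iff_mem_closure.2 (h2 (subset_closure rfl))).antisymm ht |>.eq.symm

theorem exists_isMax' {T : Scheme.{u}} (t : T) : ∃ η, η ⤳ t ∧ IsMax' η := by
  obtain ⟨η, hη⟩ := QuasiSober.sober (isIrreducible_irreducibleComponent (x := t)) isClosed_irreducibleComponent
  refine ⟨η, hη.specializes mem_irreducibleComponent, isMax'_of_closure_mem ?_⟩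
  rw [show closure ({η} : Set T) = irreducibleComponent t from hη]
  exact irreducibleComponent_mem_irreducibleComponents t

theorem closure_mem_of_isMax' {T : Scheme.{u}} {η : T} (h : IsMax' η) : closure {η} ∈ irreducibleComponents T := by
  obtain ⟨θ, hθ⟩ := QuasiSober.sober (isIrreducible_irreducibleComponent (x := η)) isClosed_irreducibleComponent
  obtain rfl := h θ (hθ.specializes mem_irreducibleComponent)
  rw [show closure ({θ} : Set T) = irreducibleComponent θ from hθ]
  exact irreducibleComponent_mem_irreducibleComponents θ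

/-- Flat morphisms with generic fibres of pure dimension are equidimensional. -/
theorem fibreDimAt_eq {V T : Scheme.{u}} (g : V ⟶ T) [Flat g] [LocallyOfFiniteType g] (r : ℕ)
    (hgen : ∀ v, IsMax' (g v) → FlatMor.fibreDimAt g v = r) (v : V) : FlatMor.fibreDimAt g v = r := by
  obtain ⟨η, hη, hmax⟩ := exists_isMax' (g v)
  refine le_antisymm ?_ ?_
  · by_contra h
    obtain ⟨v', hv', hd⟩ := L02.RelDim.exists_fibreDimAt_lt g hη (lt_of_not_ge h)
    exact hd.ne (hgen v' (hv'.symm ▸ hmax)).symm
  · obtain ⟨v', hv', hgv'⟩ := Flat.generalizingMap g hη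
    have hr : FlatMor.fibreDimAt g v' = r := hgen v' (hgv'.symm ▸ hmax)
    cases r with
    | zero =>
      show ((0 : ℕ) : WithBot ℕ∞) ≤ FlatMor.localDim (g.fiber (g v)) (g.asFiber v)
      refine le_iInf fun W => ?_
      haveI : Nonempty (IrreducibleCloseds ↥(W.1 : Set (g.fiber (g v)))) :=
        ⟨⟨closure {⟨_, W.2⟩}, isIrreducible_singleton.closure, isClosed_closure⟩⟩
      exact_mod_cast Order.krullDim_nonneg
    | succ n =>
      by_contra h
      have hv : FlatMor.fibreDimAt g v ≤ (n : ℕ) := by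
        generalize FlatMor.fibreDimAt g v = d at h
        match d with
        | ⊥ => exact bot_le
        | (⊤ : ℕ∞) => exact absurd le_top h
        | ((m : ℕ) : ℕ∞) =>
          have h' : ¬ (n + 1) ≤ m := fun hh => h (by exact_mod_cast hh)
          exact_mod_cast (show m ≤ n by omega)
      have h' : FlatMor.fibreDimAt g v' ≤ (n : ℕ) :=
        hv'.mem_open (Groth.L07.FibreDim.isOpen_fibreDimAt_le g n) hv
      rw [hr] at h'
      have : n + 1 ≤ n := by exact_mod_cast h'
      omega

/-- Universal equidimensionality. -/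
theorem univ_equidim {V T T' : Scheme.{u}} (q : V ⟶ T) [Flat q] [LocallyOfFiniteType q] (r : ℕ)
    (hgen : ∀ v, IsMax' (q v) → FlatMor.fibreDimAt q v = r) (g : T' ⟶ T) :
    (∀ w : ↥(pullback q g), FlatMor.fibreDimAt (pullback.snd q g) w = r) ∧
      ∀ C ∈ irreducibleComponents ↥(pullback q g),
        closure ((pullback.snd q g).base '' C) ∈ irreducibleComponents ↥T' := by
  refine ⟨fun w => by rw [Groth.L23.fibreDimAt_of_isPullback (IsPullback.of_hasPullback q g) w,
    fibreDimAt_eq q r hgen], fun C hC => ?_⟩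
  obtain ⟨ξ, hξ⟩ := QuasiSober.sober hC.1 (isClosed_of_mem_irreducibleComponents C hC)
  have hmax : IsMax' ξ := isMax'_of_closure_mem (by rw [show closure ({ξ} : Set _) = C from hξ]; exact hC)
  have himg : IsMax' (pullback.snd q g ξ) := fun t ht => by
    obtain ⟨ξ', h1, h2⟩ := Flat.generalizingMap (pullback.snd q g) ht
    rw [← h2, hmax ξ' h1]
  suffices h : closure ((pullback.snd q g).base '' C) = closure {pullback.snd q g ξ} by
    rw [h]; exact closure_mem_of_isMax' himg
  refine subset_antisymm (closure_minimal ?_ isClosed_closure)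
    (closure_mono (Set.singleton_subset_iff.2 (Set.mem_image_of_mem _ hξ.mem)))
  rintro _ ⟨c, hc, rfl⟩
  exact ((hξ.specializes hc).map (pullback.snd q g).continuous).mem_closure

/-- A closed subscheme containing a whole fibre has the same local fibre dimension. -/
theorem fibreDimAt_comp_of_fibre_subset {V W T : Scheme.{u}} (i : V ⟶ W) [IsClosedImmersion i] (f : W ⟶ T) (v : V)
    (h : f ⁻¹' {f (i v)} ⊆ Set.range i) : FlatMor.fibreDimAt (i ≫ f) v = FlatMor.fibreDimAt f (i v) := by
  have := Groth.L23.quasiSober_preimage_singleton f (f (i v))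
  have := Groth.L23.quasiSober_preimage_singleton (i ≫ f) ((i ≫ f) v)
  let φ : ↥((i ≫ f) ⁻¹' {(i ≫ f) v}) → ↥(f ⁻¹' {f (i v)}) := fun w => ⟨i w.1, w.2⟩
  have hemb : IsEmbedding φ := IsEmbedding.of_comp (by fun_prop) continuous_subtype_val (i.isEmbedding.comp IsEmbedding.subtypeVal)
  have hsurj : Function.Surjective φ := fun w => by
    obtain ⟨u, hu⟩ := h w.2
    refine ⟨⟨u, ?_⟩, Subtype.ext hu⟩
    show f (i u) = f (i v)
    rw [hu]; exact w.2
  rw [Groth.L23.fibreDimAt_eq_preimage, Groth.L23.fibreDimAt_eq_preimage,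
    Groth.L23.localDim_homeomorph (hemb.toHomeomorphOfSurjective hsurj)]
  rfl

/-- The fibre of the closure of a point, at that point. -/
theorem fibreDimAt_closure {X S Z : Scheme.{u}} (p : X ⟶ S) [LocallyOfFiniteType p] (z : X) (hz : IsMax' (p z))
    (r : ℕ) (hr : topologicalKrullDim ↥(closure ({p.asFiber z} : Set ↥(p.fiber (p z)))) = r)
    (ι : Z ⟶ X) [IsClosedImmersion ι] (hZ : Set.range ι = closure {z}) (y : Z) (hy : IsMax' ((ι ≫ p) y)) :
    FlatMor.fibreDimAt (ι ≫ p) y = r := by
  have hzy : z ⤳ ι y := specializes_iff_mem_closure.2 (hZ ▸ ⟨y, rfl⟩)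
  have hs : p z = (ι ≫ p) y := hy (p z) (hzy.map p.continuous)
  obtain ⟨y0, hy0⟩ : z ∈ Set.range ι := by rw [hZ]; exact subset_closure rfl
  let s := (ι ≫ p) y
  let F := (ι ≫ p).fiber s
  let k := S.residueField s
  letI : F.Over (Spec (CommRingCat.of k)) := ⟨(ι ≫ p).fiberToSpecResidueField s⟩
  haveI : LocallyOfFiniteType (F ↘ Spec (CommRingCat.of k)) :=
    MorphismProperty.pullback_snd (P := @LocallyOfFiniteType) (ι ≫ p) (S.fromSpecResidueField s) inferInstance
  let j : F ⟶ Z := (ι ≫ p).fiberι s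
  have hj : Set.range j = (ι ≫ p) ⁻¹' {s} := (ι ≫ p).range_fiberι s
  obtain ⟨g, hg⟩ : y0 ∈ Set.range j := by
    rw [hj]
    show p (ι y0) = _
    rw [hy0, hs]
  have hgen : ∀ c : F, g ⤳ c := fun c => by
    rw [← ((ι.isEmbedding.comp j.isEmbedding).isInducing.specializes_iff), Function.comp_apply, hg, hy0,
      Function.comp_apply, specializes_iff_mem_closure, ← hZ]
    exact ⟨_, rfl⟩
  have huniv : closure ({g} : Set F) = Set.univ := Set.eq_univ_of_forall fun c => (hgen c).mem_closure
  show FlatMor.localDim F ((ι ≫ p).asFiber y) = r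
  rw [Groth.L22.FibreSemicont.localDim_eq_iSup k]
  have hdim : topologicalKrullDim F = r := by
    rw [← hr, ← SchemeDim.topologicalKrullDim_eq_of_isEmbedding (ι.isEmbedding.comp j.isEmbedding) rfl,
      ← SchemeDim.topologicalKrullDim_eq_of_isEmbedding
        ((p.fiberι (p z)).isEmbedding.comp IsEmbedding.subtypeVal) rfl]
    refine congrArg (fun A : Set X => topologicalKrullDim ↥A) ?_
    rw [Set.range_comp, hj, Set.range_comp, Subtype.range_coe]
    have h1 := (p.fiberι (p z)).isEmbedding.isInducing.closure_eq_preimage_closure_image {p.asFiber z}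
    rw [h1, Set.image_preimage_eq_inter_range, Set.image_singleton, p.fiberι_asFiber, p.range_fiberι, ← hZ,
      hs]
    have : ι '' ((ι ≫ p) ⁻¹' {s}) = Set.range ι ∩ p ⁻¹' {s} := by
      ext w
      constructor
      · rintro ⟨u, hu, rfl⟩; exact ⟨⟨u, rfl⟩, hu⟩
      · rintro ⟨⟨u, rfl⟩, hw⟩; exact ⟨u, hw, rfl⟩
    rw [this]
  rw [← hdim]
  refine le_antisymm (iSup_le fun η => SchemeDim.topologicalKrullDim_mono (Set.subset_univ _) |>.trans
      (IsHomeomorph.topologicalKrullDim_eq _ (Homeomorph.Set.univ F).isHomeomorph).le) (le_iSup_of_le ⟨g, hgen _⟩ ?_)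
  rw [huniv]
  exact (IsHomeomorph.topologicalKrullDim_eq _ (Homeomorph.Set.univ F).isHomeomorph).ge

/-- Effective Cartier divisors miss the maximal points. -/
theorem sI_eq_top_of_isMax' {T : Scheme.{u}} {I : T.IdealSheafData} (hI : BlowUp.IsEffCartierIdeal I) {η : T}
    (hη : IsMax' η) : sI I η = ⊤ := by
  obtain ⟨W, a, hηW, -, hW⟩ := Groth.L20.SeeNormal.exists_sI_eq_span hI η
  obtain ⟨h1, h2⟩ := hW η hηW
  rw [h1, Ideal.span_singleton_eq_top]
  by_contra hu
  suffices hnil : IsNilpotent (T.presheaf.germ W.1 η hηW a) by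
    obtain ⟨n, hn⟩ := hnil
    have := pow_mem h2 n
    rw [hn] at this
    exact zero_notMem_nonZeroDivisors this
  rw [← mem_nilradical, nilradical_eq_sInf, Ideal.mem_sInf]
  intro P hP
  let w : Spec (T.presheaf.stalk η) := ⟨P, hP⟩
  have hw : T.fromSpecStalk η w = T.fromSpecStalk η (closedPoint (T.presheaf.stalk η)) := by
    rw [Scheme.fromSpecStalk_closedPoint]
    refine hη _ ?_
    have := (IsLocalRing.specializes_closedPoint w).map (T.fromSpecStalk η).continuous
    rwa [Scheme.fromSpecStalk_closedPoint] at this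
  have := congrArg PrimeSpectrum.asIdeal ((T.fromSpecStalk η).isEmbedding.injective hw)
  rw [show P = w.asIdeal from rfl, this]
  exact hu

theorem sI_comap_eq_top_iff {T T' : Scheme.{u}} (f : T' ⟶ T) (I : T.IdealSheafData) (t : T') :
    sI (I.comap f) t = ⊤ ↔ sI I (f t) = ⊤ := by
  rw [Groth.L20.SeeNormal.sI_comap]
  refine ⟨fun h => ?_, fun h => by rw [h, Ideal.map_top]⟩
  by_contra hne
  have hle : (sI I (f t)).map (f.stalkMap t).hom ≤ maximalIdeal (T'.presheaf.stalk t) :=
    Ideal.map_le_iff_le_comap.2 fun x hx hu => (IsLocalRing.le_maximalIdeal hne hx) (isUnit_of_map_unit (f.stalkMap t).hom x hu)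
  rw [h] at hle
  exact (maximalIdeal.isMaximal _).ne_top (top_le_iff.1 hle)

/-- The torsion ideal vanishes off the support. -/
theorem sI_torsion_eq_bot {W : Scheme.{u}} (E 𝒥 : W.IdealSheafData)
    (h𝒥 : ∀ (V : W.affineOpens) (a : Γ(W, V.1)), a ∈ 𝒥.ideal V →
      BlowUp.KilledByPowerNear E (Coh.structureModule W) V a) (w : W) (hw : sI E w = ⊤) : sI 𝒥 w = ⊥ := by
  obtain ⟨U, hU, hwU, -⟩ := exists_isAffineOpen_mem_and_subset (x := w) (U := (⊤ : W.Opens)) trivial
  rw [sI_eq 𝒥 ⟨U, hU⟩ hwU, eq_bot_iff, Ideal.map_le_iff_le_comap]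
  intro a ha
  obtain ⟨n, hn⟩ := h𝒥 ⟨U, hU⟩ a ha
  have h1 : (sI (E ^ n) w) ≤ Submodule.comap (LinearMap.toSpanSingleton (W.presheaf.stalk w) (W.presheaf.stalk w)
      (W.presheaf.germ U w hwU a)) ⊥ := by
    rw [sI_eq (E ^ n) ⟨U, hU⟩ hwU, Ideal.map_le_iff_le_comap]
    intro c hc
    show W.presheaf.germ U w hwU c • W.presheaf.germ U w hwU a = 0
    rw [smul_eq_mul, ← map_mul, show c * a = 0 from hn c hc, map_zero]
  rw [Groth.L20.Infinitesimal.sI_pow, hw, Ideal.top_pow] at h1
  have h2 := h1 (Submodule.mem_top (x := (1 : W.presheaf.stalk w)))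
  show W.presheaf.germ U w hwU a = 0
  simpa using h2

/-- Flat strict transforms of the closure of a point. -/
theorem strictTransform {X S Z S' : Scheme.{u}} (p : X ⟶ S) [LocallyOfFiniteType p] (z : X) (hz : IsMax' (p z))
    (r : ℕ) (hr : topologicalKrullDim ↥(closure ({p.asFiber z} : Set ↥(p.fiber (p z)))) = r)
    (ι : Z ⟶ X) [IsClosedImmersion ι] (hZ : Set.range ι = closure {z})
    (I : S.IdealSheafData) (b : S' ⟶ S) (hb : BlowUp.IsBlowUp b I)
    (𝒥 : (pullback (ι ≫ p) b).IdealSheafData)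
    (h𝒥 : ∀ (V : (pullback (ι ≫ p) b).affineOpens) (a : Γ(pullback (ι ≫ p) b, V.1)), a ∈ 𝒥.ideal V →
      BlowUp.KilledByPowerNear ((I.comap (ι ≫ p)).comap (pullback.fst (ι ≫ p) b))
        (Coh.structureModule (pullback (ι ≫ p) b)) V a)
    (v : 𝒥.subscheme) (hv : IsMax' ((𝒥.subschemeι ≫ pullback.snd (ι ≫ p) b) v)) :
    FlatMor.fibreDimAt (𝒥.subschemeι ≫ pullback.snd (ι ≫ p) b) v = r := by
  have hη : sI I (b (pullback.snd (ι ≫ p) b (𝒥.subschemeι v))) = ⊤ :=
    (sI_comap_eq_top_iff _ _ _).1 (sI_eq_top_of_isMax' hb.1 hv)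
  rw [fibreDimAt_comp_of_fibre_subset, Groth.L23.fibreDimAt_of_isPullback (IsPullback.of_hasPullback (ι ≫ p) b)]
  · refine fibreDimAt_closure p z hz r hr ι hZ _ ?_
    rw [← Scheme.Hom.comp_apply, pullback.condition, Scheme.Hom.comp_apply]
    intro t ht
    let C : S.Opens := I.support.compl
    have hηC : b (pullback.snd (ι ≫ p) b (𝒥.subschemeι v)) ∈ C := fun h =>
      (Groth.L22.DivSub.mem_support_iff I _).1 h hη
    have htC : t ∈ C := ht.mem_open C.2 hηC
    haveI : IsIso (b ∣_ C) := Groth.L22.Ideals.isIso_restrict_compl hb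
    obtain ⟨t', ht'⟩ := (b ∣_ C).surjective ⟨t, htC⟩
    have ht'' : b t'.1 = t := by
      have := congrArg Subtype.val ht'
      rwa [morphismRestrict_base_coe] at this
    have hsp : t' ⤳ (⟨pullback.snd (ι ≫ p) b (𝒥.subschemeι v), hηC⟩ : (b ⁻¹ᵁ C : S'.Opens)) := by
      rw [← (b ∣_ C).isEmbedding.isInducing.specializes_iff, subtype_specializes_iff, morphismRestrict_base_coe,
        morphismRestrict_base_coe, ht'']
      exact ht
    rw [subtype_specializes_iff] at hsp
    rw [← ht'', hv _ hsp]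
    rfl
  · intro w hw
    rw [Scheme.IdealSheafData.range_subschemeι]
    refine (Groth.L22.DivSub.mem_support_iff 𝒥 w).2 ?_
    rw [sI_torsion_eq_bot _ 𝒥 h𝒥 w]
    · exact bot_ne_top
    rw [sI_comap_eq_top_iff, sI_comap_eq_top_iff, ← Scheme.Hom.comp_apply, pullback.condition, Scheme.Hom.comp_apply,
      show pullback.snd (ι ≫ p) b w = _ from hw]
    exact hη

/-- Flat closures of the closure of a point. -/
theorem flatClosure {X S Z : Scheme.{u}} (p : X ⟶ S) [LocallyOfFiniteType p] [QuasiCompact p] (z : X) (hz : IsMax' (p z))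
    (r : ℕ) (hr : topologicalKrullDim ↥(closure ({p.asFiber z} : Set ↥(p.fiber (p z)))) = r)
    (ι : Z ⟶ X) [IsClosedImmersion ι] (hZ : Set.range ι = closure {z})
    (R : Type u) [CommRing R] [IsDomain R] [IsDiscreteValuationRing R] (x : Spec (CommRingCat.of R) ⟶ S)
    (hx : IsMax' (x ⟨⊥, Ideal.isPrime_bot⟩))
    (q : (pullback.map (ι ≫ p) (Spec.map (CommRingCat.ofHom (algebraMap R (FractionRing R))) ≫ x) (ι ≫ p) x (𝟙 Z) (Spec.map (CommRingCat.ofHom (algebraMap R (FractionRing R)))) (𝟙 S) ((Category.comp_id _).trans (Category.id_comp _).symm) (Category.comp_id _)).ker.subscheme ⟶ Spec (CommRingCat.of R))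
    (hq : q = (pullback.map (ι ≫ p) (Spec.map (CommRingCat.ofHom (algebraMap R (FractionRing R))) ≫ x) (ι ≫ p) x (𝟙 Z) (Spec.map (CommRingCat.ofHom (algebraMap R (FractionRing R)))) (𝟙 S) ((Category.comp_id _).trans (Category.id_comp _).symm) (Category.comp_id _)).ker.subschemeι ≫ pullback.snd (ι ≫ p) x) :
    (Flat q ∧ LocallyOfFiniteType q) ∧ ∀ v, IsMax' (q v) → FlatMor.fibreDimAt q v = r := by
  let gen := Spec.map (CommRingCat.ofHom (algebraMap R (FractionRing R)))
  let m := pullback.map (ι ≫ p) (gen ≫ x) (ι ≫ p) x (𝟙 Z) gen (𝟙 S)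
    ((Category.comp_id _).trans (Category.id_comp _).symm) (Category.comp_id _)
  change m.ker.subscheme ⟶ _ at q
  change q = m.ker.subschemeι ≫ _ at hq
  subst hq
  have hm1 : m ≫ pullback.fst (ι ≫ p) x = pullback.fst (ι ≫ p) (gen ≫ x) :=
    (pullback.lift_fst _ _ _).trans (Category.comp_id _)
  have sq : IsPullback m (pullback.snd (ι ≫ p) (gen ≫ x)) (pullback.snd (ι ≫ p) x) gen := by
    refine (IsPullback.of_bot ?_ ?_ (IsPullback.of_hasPullback (ι ≫ p) x).flip).flip
    · rw [hm1]; exact (IsPullback.of_hasPullback (ι ≫ p) (gen ≫ x)).flip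
    · exact (pullback.lift_snd _ _ _).symm
  haveI : QuasiCompact gen := inferInstance
  haveI : QuasiCompact m := MorphismProperty.of_isPullback (P := @QuasiCompact) sq.flip inferInstance
  refine ⟨⟨?_, inferInstanceAs (LocallyOfFiniteType (m.ker.subschemeι ≫ pullback.snd (ι ≫ p) x))⟩, fun v hv => ?_⟩
  · haveI := Groth.L02.STD.toImage_dominant m
    haveI : Flat (m.toImage ≫ m.imageι ≫ pullback.snd (ι ≫ p) x) := by
      rw [m.toImage_imageι_assoc, sq.w]
      haveI : IsField (CommRingCat.of (FractionRing R)) := Field.toIsField _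
      haveI : Flat gen := by
        rw [HasRingHomProperty.Spec_iff (P := @Flat)]
        show (algebraMap R (FractionRing R)).Flat
        rw [RingHom.flat_algebraMap_iff]
        exact IsLocalization.flat (FractionRing R) (nonZeroDivisors R)
      infer_instance
    exact Groth.L02.STD.flat_of_dominant R m.toImage (m.imageι ≫ pullback.snd (ι ≫ p) x)
  · have hv0 : (pullback.snd (ι ≫ p) x) (m.ker.subschemeι v) = ⟨⊥, Ideal.isPrime_bot⟩ :=
      (hv _ ((PrimeSpectrum.le_iff_specializes (⟨⊥, Ideal.isPrime_bot⟩ : PrimeSpectrum R) _).1 bot_le)).symm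
    rw [fibreDimAt_comp_of_fibre_subset, Groth.L23.fibreDimAt_of_isPullback (IsPullback.of_hasPullback (ι ≫ p) x)]
    · refine fibreDimAt_closure p z hz r hr ι hZ _ ?_
      rw [← Scheme.Hom.comp_apply, pullback.condition, Scheme.Hom.comp_apply, hv0]
      exact hx
    · intro w hw
      rw [Scheme.IdealSheafData.range_subschemeι]
      refine Scheme.Hom.range_subset_ker_support m ?_
      obtain ⟨t⟩ : Nonempty (Spec (CommRingCat.of (FractionRing R))) := inferInstance
      have hgt : gen t = ⟨⊥, Ideal.isPrime_bot⟩ := by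
        refine PrimeSpectrum.ext ?_
        show t.asIdeal.comap (algebraMap R (FractionRing R)) = ⊥
        rw [(Ideal.eq_bot_or_top t.asIdeal).resolve_right t.isPrime.ne_top]
        exact Ideal.comap_bot_of_injective _ (IsFractionRing.injective R (FractionRing R))
      obtain ⟨u, hu, -⟩ := Scheme.exists_preimage_of_isPullback sq w t
        (by rw [hgt, ← hv0]; exact hw)
      exact ⟨u, hu⟩

end Groth.L22.UnivEquidim
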